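import Groth.Prelude.Def_Dual3
import Groth.Agent.Ega4fib.H172.FibDimBC
import Groth.Agent.Ega4fib.H112.FibreFormula
import Groth.Agent.EtpbcA.ArtinDim
import Groth.Agent.S1146

/-!
# Dimension of fibres: base change to a field, bounds
-/

set_option autoImplicit false

universe u

open CategoryTheory CategoryTheory.Limits AlgebraicGeometry Topology
open Groth.Agent Groth.Agent.VarietyB

namespace K129.FibDim

theorem isIso_fromSpecResidueField {k : Type u} [Field k] (s : Spec (CommRingCat.of k)) :
    IsIso ((Spec (CommRingCat.of k)).fromSpecResidueField s) := by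
  have hsub : Subsingleton (Spec (CommRingCat.of k)) :=
    inferInstanceAs (Subsingleton (PrimeSpectrum k))
  have hr : Set.range ((Spec (CommRingCat.of k)).fromSpecResidueField s) = Set.univ := by
    rw [Scheme.range_fromSpecResidueField]
    ext x
    simp only [Set.mem_singleton_iff, Set.mem_univ, iff_true]
    exact Subsingleton.elim _ _
  have h1 : IsClosedImmersion ((Spec (CommRingCat.of k)).fromSpecResidueField s) :=
    IsClosedImmersion.of_isPreimmersion _ (by rw [hr]; exact isClosed_univ)
  have h2 : Surjective ((Spec (CommRingCat.of k)).fromSpecResidueField s) :=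
    ⟨Set.range_eq_univ.1 hr⟩
  exact isIso_of_isClosedImmersion_of_surjective _

/-- Over a field, the local dimension is the local fibre dimension. -/
theorem localDim_eq_fibreDimAt {X : Scheme.{u}} {k : Type u} [Field k] (f : X ⟶ Spec (CommRingCat.of k)) (x : X) :
    FlatMor.localDim X x = FlatMor.fibreDimAt f x := by
  have h1 : IsIso ((Spec (CommRingCat.of k)).fromSpecResidueField (f x)) := isIso_fromSpecResidueField (f x)
  have h2 : IsIso (f.fiberι (f x)) := inferInstanceAs (IsIso (pullback.fst f _))
  have h3 := Groth.Agent.S1146.result (f.fiberι (f x)) (f.asFiber x)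
  rw [FlatMor.fibreDimAt, h3]
  congr 1
  exact (f.fiberι_asFiber x).symm

/-- The dimension of a base change to a field, through the local fibre dimensions. -/
theorem dim_eq_iSup_of_isPullback {P U V : Scheme.{u}} {K : Type u} [Field K] {p : P ⟶ U}
    {q : P ⟶ Spec (CommRingCat.of K)} {h : U ⟶ V} {t : Spec (CommRingCat.of K) ⟶ V} (sq : IsPullback p q h t)
    [LocallyOfFiniteType h] :
    topologicalKrullDim P = ⨆ (u : U) (_ : h u = t (IsLocalRing.closedPoint K)), FlatMor.fibreDimAt h u := by
  have h0 : ∀ z : P, FlatMor.localDim P z = FlatMor.fibreDimAt h (p z) := fun z => by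
    rw [localDim_eq_fibreDimAt q z]
    exact Ega4fib.H172.FibDimBC.fibreDimAt_of_isPullback sq z
  rw [VarietyB.DimTop.topologicalKrullDim_eq_iSup_localDim]
  apply le_antisymm
  · refine iSup_le fun z => ?_
    rw [h0 z]
    refine le_iSup₂_of_le (p z) ?_ le_rfl
    rw [← Scheme.Hom.comp_apply, sq.w, Scheme.Hom.comp_apply]
    congr 1
    exact Subsingleton.elim (α := PrimeSpectrum K) _ _
  · refine iSup₂_le fun u hu => ?_
    obtain ⟨z, hz, -⟩ := Scheme.exists_preimage_of_isPullback sq u (IsLocalRing.closedPoint K) hu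
    refine le_iSup_of_le z ?_
    rw [h0 z, hz]

theorem dim_fiber_eq_iSup {U V : Scheme.{u}} (h : U ⟶ V) [LocallyOfFiniteType h] (v : V) :
    topologicalKrullDim (h.fiber v) = ⨆ (u : U) (_ : h u = v), FlatMor.fibreDimAt h u := by
  have h1 := dim_eq_iSup_of_isPullback (K := V.residueField v)
    (IsPullback.of_hasPullback h (V.fromSpecResidueField v))
  have h2 : V.fromSpecResidueField v (IsLocalRing.closedPoint (V.residueField v)) = v :=
    Scheme.fromSpecResidueField_apply _ _
  rw [h2] at h1
  exact h1

/-- The dimension of the base change to a field is the dimension of the fibre. -/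
theorem dim_of_isPullback {P U V : Scheme.{u}} {K : Type u} [Field K] {p : P ⟶ U}
    {q : P ⟶ Spec (CommRingCat.of K)} {h : U ⟶ V} {t : Spec (CommRingCat.of K) ⟶ V} (sq : IsPullback p q h t)
    [LocallyOfFiniteType h] :
    topologicalKrullDim P = topologicalKrullDim (h.fiber (t (IsLocalRing.closedPoint K))) := by
  rw [dim_fiber_eq_iSup, dim_eq_iSup_of_isPullback sq]

theorem dim_fiber_le_iff {U V : Scheme.{u}} (h : U ⟶ V) [LocallyOfFiniteType h] (v : V) (d : WithBot ℕ∞) :
    topologicalKrullDim (h.fiber v) ≤ d ↔ ∀ u : U, h u = v → FlatMor.fibreDimAt h u ≤ d := by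
  rw [dim_fiber_eq_iSup]
  simp only [iSup_le_iff]

theorem fibreDimAt_le_dim {U V : Scheme.{u}} (h : U ⟶ V) [LocallyOfFiniteType h] (u : U) :
    FlatMor.fibreDimAt h u ≤ topologicalKrullDim (h.fiber (h u)) :=
  (dim_fiber_le_iff h (h u) _).mp le_rfl u rfl

theorem resTrdeg_le {X Y : Scheme.{u}} (f : X ⟶ Y) [LocallyOfFiniteType f] (x : X) (d : ℕ)
    (h : topologicalKrullDim (f.fiber (f x)) ≤ d) : Dual3.resTrdeg f x ≤ d := by
  let _ : (f.fiber (f x)).Over (Spec (CommRingCat.of (Y.residueField (f x)))) :=
    ⟨f.fiberToSpecResidueField (f x)⟩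
  have hft : LocallyOfFiniteType ((f.fiber (f x)) ↘ (Spec (CommRingCat.of (Y.residueField (f x))))) :=
    inferInstanceAs (LocallyOfFiniteType (Limits.pullback.snd f (Y.fromSpecResidueField (f x))))
  have hr : Dual3.resTrdeg f x = Cardinal.toNat (Dual3.resTrdeg f x) :=
    (Cardinal.cast_toNat_of_lt_aleph0 (CycB.RelDim.rtd_lt_aleph0 f x)).symm
  have h2 := (Ega4fib.H112.FibreFormula.trd_fiber_eq f (f x) (f.asFiber x) _
    (by rw [Scheme.Hom.fiberι_asFiber]; exact hr)).2
  have h3 := (EtpbcA.Artin.topologicalKrullDim_le_iff_trd (Y.residueField (f x)) (f.fiber (f x)) d).mp h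
    (f.asFiber x)
  rw [h2] at h3
  rw [hr]
  exact_mod_cast h3

end K129.FibDim
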