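import Mathlib.RingTheory.Polynomial.IsIntegral
import Mathlib.RingTheory.AlgebraicIndependent.TranscendenceBasis
import Mathlib.RingTheory.AlgebraicIndependent.AlgebraicClosure
import Mathlib.LinearAlgebra.Dual.Lemmas

/-!
# The universal form of degree `m` does not vanish on a subvariety of positive dimension

`coeff_mem_of_mul`: if `g * P` has coefficients in the subfield `K ⊆ L`, `g ≠ 0` with coefficients in `K`, then `P`
has coefficients in `K`.
`coeff_mem_of_isAlgebraic`: `P` a polynomial over `L ⊆ Ω`, `s` algebraically independent over `L`, `P(s)` algebraic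
over `K(s)`, `K` algebraically closed in `L` imply that the coefficients of `P` lie in `K`.
`form_ne_zero`: field theoretic form of "the universal form of degree `m ≥ dim Y` cuts the fibres properly".
-/

set_option autoImplicit false

open MvPolynomial Cardinal

namespace K129.AlgCoeff

section Coeff

variable {K L : Type*} [Field K] [Field L] [Algebra K L] {ι : Type*}

theorem coeff_mem_of_mul (g : MvPolynomial ι K) (hg : g ≠ 0) (P : MvPolynomial ι L)
    (h : ∀ n, (map (algebraMap K L) g * P).coeff n ∈ Set.range (algebraMap K L)) (n : ι →₀ ℕ) :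
    P.coeff n ∈ Set.range (algebraMap K L) := by
  classical
  by_contra hn
  have h1 : P.coeff n ∉ (Submodule.span K {(1 : L)}) := by
    intro h2
    obtain ⟨c, hc⟩ := Submodule.mem_span_singleton.mp h2
    exact hn ⟨c, by rw [← hc, Algebra.smul_def, mul_one]⟩
  obtain ⟨f, hf0, hf1⟩ := Submodule.exists_le_ker_of_notMem h1
  have hf1' : f 1 = 0 := hf1 (Submodule.mem_span_singleton_self 1)
  have hfK : ∀ c : K, f (algebraMap K L c) = 0 := fun c => by
    rw [Algebra.algebraMap_eq_smul_one, map_smul, hf1', smul_zero]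
  let Q : MvPolynomial ι K := ∑ b ∈ P.support, monomial b (f (P.coeff b))
  have hQ : ∀ b, Q.coeff b = f (P.coeff b) := by
    intro b
    simp only [Q, coeff_sum, coeff_monomial]
    rw [Finset.sum_ite_eq']
    split_ifs with hb
    · rfl
    · rw [notMem_support_iff.mp hb, map_zero]
  have hgQ : g * Q = 0 := by
    ext n
    rw [coeff_mul, coeff_zero]
    obtain ⟨c, hc⟩ := h n
    have h3 := hfK c
    rw [hc, coeff_mul, map_sum] at h3
    rw [← h3]
    refine Finset.sum_congr rfl fun x _ => ?_
    rw [hQ, coeff_map, ← Algebra.smul_def, map_smul, smul_eq_mul]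
  rcases mul_eq_zero.mp hgQ with h4 | h4
  · exact hg h4
  · apply hf0
    rw [← hQ, h4, coeff_zero]

attribute [local instance] MvPolynomial.algebraMvPolynomial in
theorem coeff_mem_of_isAlgebraic' (hK : ∀ x : L, IsAlgebraic K x → x ∈ Set.range (algebraMap K L))
    (P : MvPolynomial ι L) (hP : IsAlgebraic (MvPolynomial ι K) P) (n : ι →₀ ℕ) :
    P.coeff n ∈ Set.range (algebraMap K L) := by
  obtain ⟨g, hg, hgP⟩ := hP.exists_integral_multiple
  refine coeff_mem_of_mul g hg P (fun n => hK _ ?_) n
  have h := (MvPolynomial.isIntegral_iff_isIntegral_coeff.mp hgP n).isAlgebraic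
  rw [Algebra.smul_def] at h
  exact h

variable {Ω : Type*} [Field Ω] [Algebra K Ω] [Algebra L Ω] [IsScalarTower K L Ω]

theorem coeff_mem_of_isAlgebraic (hK : ∀ x : L, IsAlgebraic K x → x ∈ Set.range (algebraMap K L))
    {s : ι → Ω} (hs : AlgebraicIndependent L s) (P : MvPolynomial ι L)
    (hP : IsAlgebraic (Algebra.adjoin K (Set.range s)) (aeval s P)) (n : ι →₀ ℕ) :
    P.coeff n ∈ Set.range (algebraMap K L) := by
  let _ : Algebra (MvPolynomial ι K) (MvPolynomial ι L) := MvPolynomial.algebraMvPolynomial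
  refine coeff_mem_of_isAlgebraic' hK P ?_ n
  have hcomp : ∀ q : MvPolynomial ι K, aeval s (map (algebraMap K L) q) = aeval s q := fun q => by
    rw [aeval_map_algebraMap]
  have hsK : AlgebraicIndependent K s := by
    intro p q hpq
    apply map_injective _ (algebraMap K L).injective
    apply hs
    rw [hcomp, hcomp]
    exact hpq
  let f : MvPolynomial ι K →+* Algebra.adjoin K (Set.range s) :=
    (aeval s : MvPolynomial ι K →ₐ[K] Ω).toRingHom.codRestrict (Algebra.adjoin K (Set.range s)) fun q => by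
      rw [Algebra.adjoin_range_eq_range_aeval]
      exact ⟨q, rfl⟩
  have hf : Function.Surjective f := by
    rintro ⟨x, hx⟩
    rw [Algebra.adjoin_range_eq_range_aeval] at hx
    obtain ⟨q, rfl⟩ := hx
    exact ⟨q, rfl⟩
  refine IsAlgebraic.of_ringHom_of_comp_eq f (aeval s : MvPolynomial ι L →ₐ[L] Ω).toRingHom
    hP hf hs ?_
  ext q
  · change algebraMap K Ω q |> fun _ => aeval s (C q) = aeval s (map (algebraMap K L) (C q))
    exact (hcomp _).symm
  · change aeval s (X q) = aeval s (map (algebraMap K L) (X q))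
    exact (hcomp _).symm

end Coeff

section Form

variable {k Ky Kx F Ω : Type*} [Field k] [Field Ky] [Field Kx] [Field F] [Field Ω]
  [Algebra k Ky] [Algebra k F] [Algebra Ky F] [IsScalarTower k Ky F]
  [Algebra Ky Kx] [Algebra Kx Ω] [Algebra Ky Ω] [IsScalarTower Ky Kx Ω]
  [Algebra F Ω] [IsScalarTower Ky F Ω]

/-- The value of the universal form `∑ t_{ija} x_i^a x_j^{m-a}` at a point of positive relative dimension. -/
theorem form_ne_zero {e d m n : ℕ} (he : Algebra.trdeg k Ky ≤ e) (hd : Algebra.trdeg Ky Kx ≤ d)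
    (hd' : (d : Cardinal) ≤ Algebra.trdeg F Ω) (hd0 : 1 ≤ d) (hm : e ≤ m)
    (T : Fin (n + 1) × Fin (n + 1) × Fin (m + 1) → F) (hT : AlgebraicIndependent k T)
    (z : Fin (n + 1) → Kx) (j0 : Fin (n + 1)) (hz : z j0 = 1)
    (halg : Algebra.IsAlgebraic (Algebra.adjoin F (Set.range fun i => algebraMap Kx Ω (z i))) Ω) :
    ∑ p, algebraMap F Ω (T p) * algebraMap Kx Ω (z p.1) ^ (p.2.2 : ℕ) *
      algebraMap Kx Ω (z p.2.1) ^ (m - p.2.2 : ℕ) ≠ 0 := by
  classical
  intro hrel
  obtain ⟨s, hs, hb⟩ := exists_isTranscendenceBasis_subset (R := F)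
    (Set.range fun i => algebraMap Kx Ω (z i))
  have hsf : Finite s := ((Set.finite_range _).subset hs).to_subtype
  have hcard : #s = Algebra.trdeg F Ω := hb.cardinalMk_eq_trdeg
  choose i hi using fun x : s => hs x.2
  let w : s → Kx := fun x => z (i x)
  have hw : AlgebraicIndependent Ky w := by
    have h1 : AlgebraicIndependent Ky ((↑) : s → Ω) := hb.1.restrictScalars (algebraMap Ky F).injective
    have h2 : (IsScalarTower.toAlgHom Ky Kx Ω) ∘ w = (↑) := funext hi
    exact AlgebraicIndependent.of_comp (IsScalarTower.toAlgHom Ky Kx Ω) (h2 ▸ h1)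
  have hds : (d : Cardinal) ≤ #s := hd'.trans hcard.ge
  have hwb : IsTranscendenceBasis Ky w := by
    refine hw.isTranscendenceBasis_of_lift_trdeg_le_of_finite ?_
    have h1 := Cardinal.lift_le.{_, _}.mpr hd
    have h2 := Cardinal.lift_le.{_, _}.mpr hds
    rw [Cardinal.lift_natCast] at h1 h2
    exact h1.trans h2
  have hne : Nonempty s := by
    rw [← Cardinal.mk_ne_zero_iff]
    intro h0
    rw [h0] at hds
    have : d ≤ 0 := by exact_mod_cast hds
    omega
  obtain ⟨x0⟩ := hne
  obtain ⟨B, hB⟩ := exists_isTranscendenceBasis k Ky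
  let Sel : Set (Fin (n + 1) × Fin (n + 1) × Fin (m + 1)) := {p | p.1 = i x0 ∧ p.2.1 = j0}
  let C : Set F := algebraMap Ky F '' B ∪ T '' Selᶜ
  let K0 := IntermediateField.adjoin k C
  let N := algebraicClosure K0 F
  have hNmem : ∀ x : F, x ∈ N ↔ IsAlgebraic K0 x := fun x => mem_algebraicClosure_iff
  have hN : ∀ x : F, IsAlgebraic N x → x ∈ Set.range (algebraMap N F) := by
    intro x hx
    have : Algebra.IsAlgebraic K0 N := algebraicClosure.isAlgebraic K0 F
    exact ⟨⟨x, (hNmem x).mpr (hx.restrictScalars K0)⟩, rfl⟩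
  have hCN : C ⊆ N := fun x hx => (hNmem x).mpr
    (isAlgebraic_algebraMap (⟨x, IntermediateField.subset_adjoin k C hx⟩ : K0))
  have hBC : ∀ x ∈ Algebra.adjoin k B, algebraMap Ky F x ∈ Algebra.adjoin k C := by
    intro x hx
    have h1 : (IsScalarTower.toAlgHom k Ky F) x ∈ (Algebra.adjoin k B).map (IsScalarTower.toAlgHom k Ky F) :=
      ⟨x, hx, rfl⟩
    rw [AlgHom.map_adjoin] at h1
    exact Algebra.adjoin_mono (Set.subset_union_left) h1
  have hKyN : ∀ y : Ky, algebraMap Ky F y ∈ N := by
    intro y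
    rw [hNmem, IntermediateField.isAlgebraic_adjoin_iff]
    have h1 : Algebra.IsAlgebraic (Algebra.adjoin k B) Ky := by
      have := hB.isAlgebraic
      rwa [Subtype.range_coe] at this
    let f : Algebra.adjoin k B →+* Algebra.adjoin k C :=
      ((algebraMap Ky F).comp (Algebra.adjoin k B).val.toRingHom).codRestrict (Algebra.adjoin k C)
        fun x => hBC x.1 x.2
    refine (h1.isAlgebraic y).ringHom_of_comp_eq f (algebraMap Ky F) ?_ ?_
    · intro a b hab
      exact Subtype.ext ((algebraMap Ky F).injective (congrArg Subtype.val hab))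
    · ext x; rfl
  -- the polynomial
  let P : MvPolynomial s F := ∑ a : Fin (m + 1), monomial (Finsupp.single x0 (a : ℕ)) (T (i x0, j0, a))
  have hPc : ∀ a : Fin (m + 1), P.coeff (Finsupp.single x0 (a : ℕ)) = T (i x0, j0, a) := by
    intro a
    simp only [P, coeff_sum, coeff_monomial]
    rw [Finset.sum_eq_single a]
    · simp
    · intro b _ hb
      rw [if_neg]
      intro h
      have := Finsupp.single_injective x0 h
      exact hb (Fin.ext this)
    · simp
  have hPv : aeval ((↑) : s → Ω) P = ∑ p ∈ Finset.univ.filter (· ∈ Sel),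
      algebraMap F Ω (T p) * algebraMap Kx Ω (z p.1) ^ (p.2.2 : ℕ) *
      algebraMap Kx Ω (z p.2.1) ^ (m - p.2.2 : ℕ) := by
    have h1 : Finset.univ.filter (· ∈ Sel) =
        Finset.univ.image (fun a : Fin (m + 1) => (i x0, j0, a)) := by
      ext ⟨p, q, a⟩
      simp only [Sel, Finset.mem_filter, Finset.mem_univ, true_and, Set.mem_ofPred_eq,
        Finset.mem_image, Prod.mk.injEq]
      constructor
      · rintro ⟨rfl, rfl⟩
        exact ⟨a, rfl, rfl, rfl⟩
      · rintro ⟨b, h1, h2, -⟩
        exact ⟨h1.symm, h2.symm⟩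
    rw [h1, Finset.sum_image (fun a _ b _ h => by simpa using h), map_sum]
    refine Finset.sum_congr rfl fun a _ => ?_
    have h2 : algebraMap Kx Ω (z (i x0)) = x0 := hi x0
    simp only [h2, hz, map_one, one_pow, mul_one]
    rw [aeval_monomial, Finsupp.prod_single_index (by simp)]
  let R1 : Subalgebra N Ω := Algebra.adjoin N (Set.range ((↑) : s → Ω))
  have hKR : ∀ x ∈ Algebra.adjoin Ky (Set.range w), algebraMap Kx Ω x ∈ R1 := by
    intro x hx
    induction hx using Algebra.adjoin_induction with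
    | mem x hx =>
      obtain ⟨y, rfl⟩ := hx
      refine Algebra.subset_adjoin ⟨y, ?_⟩
      exact (hi y).symm
    | algebraMap r =>
      have h1 : algebraMap Kx Ω (algebraMap Ky Kx r) =
          algebraMap N Ω ⟨algebraMap Ky F r, hKyN r⟩ := by
        rw [← IsScalarTower.algebraMap_apply Ky Kx Ω]
        exact IsScalarTower.algebraMap_apply Ky F Ω r
      rw [h1]
      exact Subalgebra.algebraMap_mem _ _
    | add x y _ _ hx hy => rw [map_add]; exact add_mem hx hy
    | mul x y _ _ hx hy => rw [map_mul]; exact mul_mem hx hy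
  have hz1 : ∀ x : Kx, IsAlgebraic R1 (algebraMap Kx Ω x) := by
    intro x
    let f : Algebra.adjoin Ky (Set.range w) →+* R1 :=
      ((algebraMap Kx Ω).comp (Algebra.adjoin Ky (Set.range w)).val.toRingHom).codRestrict R1
        fun x => hKR x.1 x.2
    refine (hwb.isAlgebraic.isAlgebraic x).ringHom_of_comp_eq f (algebraMap Kx Ω) ?_ ?_
    · intro a b hab
      exact Subtype.ext ((algebraMap Kx Ω).injective (congrArg Subtype.val hab))
    · ext x; rfl
  have hTN : ∀ p ∉ Sel, T p ∈ N := fun p hp => hCN (Or.inr ⟨p, hp, rfl⟩)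
  have hPalg : IsAlgebraic R1 (aeval ((↑) : s → Ω) P) := by
    have h1 : aeval ((↑) : s → Ω) P = - ∑ p ∈ Finset.univ.filter (¬ · ∈ Sel),
        algebraMap F Ω (T p) * algebraMap Kx Ω (z p.1) ^ (p.2.2 : ℕ) *
        algebraMap Kx Ω (z p.2.1) ^ (m - p.2.2 : ℕ) := by
      rw [hPv, eq_neg_iff_add_eq_zero, Finset.sum_filter_add_sum_filter_not]
      exact hrel
    rw [h1]
    refine IsAlgebraic.neg (sum_mem (S := Subalgebra.algebraicClosure R1 Ω) fun p hp => ?_)
    have hp' : p ∉ Sel := (Finset.mem_filter.mp hp).2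
    have h2 : IsAlgebraic R1 (algebraMap F Ω (T p)) := by
      have h3 : algebraMap F Ω (T p) = algebraMap R1 Ω (algebraMap N R1 ⟨T p, hTN p hp'⟩) := rfl
      rw [h3]
      exact isAlgebraic_algebraMap _
    exact (h2.mul ((hz1 _).pow _)).mul ((hz1 _).pow _)
  have hcoef := coeff_mem_of_isAlgebraic (K := N) hN hb.1 P hPalg
  have hTall : ∀ p, T p ∈ N := by
    intro p
    by_cases hp : p ∈ Sel
    · obtain ⟨p1, p2, a⟩ := p
      obtain ⟨rfl, rfl⟩ : p1 = i x0 ∧ p2 = j0 := hp
      obtain ⟨y, hy⟩ := hcoef (Finsupp.single x0 (a : ℕ))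
      rw [hPc] at hy
      rw [← hy]
      exact y.2
    · exact hTN p hp
  -- counting
  have hTi : Function.Injective T := hT.injective
  have hind : (AlgebraicIndependent.matroid k F).Indep (Set.range T) :=
    AlgebraicIndependent.matroid_indep_iff.mpr hT.to_subtype_range
  have hcl : Set.range T ⊆ (AlgebraicIndependent.matroid k F).closure C := by
    rintro _ ⟨p, rfl⟩
    rw [AlgebraicIndependent.matroid_closure_eq]
    exact IntermediateField.isAlgebraic_adjoin_iff.mp ((hNmem _).mp (hTall p))
  have h1 := hind.encard_le_eRk_of_subset hcl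
  rw [Matroid.eRk_closure_eq] at h1
  have h2 := h1.trans (Matroid.eRk_le_encard _ _)
  have hBe : B.encard ≤ e := by
    have h3 : #B ≤ e := hB.cardinalMk_eq_trdeg.le.trans he
    have h4 : Cardinal.toENat #B ≤ Cardinal.toENat (e : Cardinal) := OrderHomClass.mono _ h3
    rwa [Cardinal.toENat_nat] at h4
  have h3 : C.encard ≤ e + (Selᶜ).encard := by
    refine (Set.encard_union_le _ _).trans ?_
    exact add_le_add ((Set.encard_image_le _ _).trans hBe) (Set.encard_image_le _ _)
  have h4 : (Set.range T).encard = Sel.encard + (Selᶜ).encard := by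
    rw [Set.encard_add_encard_compl, ← Set.image_univ, hTi.encard_image]
  have h5 : Sel.encard = m + 1 := by
    have : Sel = Set.range (fun a : Fin (m + 1) => (i x0, j0, a)) := by
      ext ⟨p, q, a⟩
      constructor
      · rintro ⟨rfl, rfl⟩
        exact ⟨a, rfl⟩
      · rintro ⟨b, hb⟩
        obtain ⟨rfl, rfl, -⟩ : i x0 = p ∧ j0 = q ∧ b = a := by simpa using hb
        exact ⟨rfl, rfl⟩
    rw [this, ← Set.image_univ, Function.Injective.encard_image (fun a b h => by simpa using h),
      Set.encard_univ]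
    simp
  have h6 : (Selᶜ).encard ≠ ⊤ := by
    rw [Set.encard_ne_top_iff]
    exact Set.toFinite _
  rw [h4, h5] at h2
  have h7 := h2.trans h3
  obtain ⟨N', hN'⟩ := ENat.ne_top_iff_exists.mp h6
  rw [← hN'] at h7
  have h8 : m + 1 + N' ≤ e + N' := by exact_mod_cast h7
  omega

end Form

end K129.AlgCoeff
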