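import Groth.Agent.IntSh.K129.Coord
import Groth.Agent.IntSh.K129.AlgCoeff
import Groth.Prelude.Def_Dual3

/-!
# Cutting fibres of a projective family by the universal form

`uform T = ∑ T_{ija} X_i^a X_j^{m-a}`.
`upper`: if the `T`s are algebraically independent over `k`, `m ≥ dim Y`, then `V(uform T)` contains no
`d`-dimensional component of a fibre.
`lower`: cutting by a form of positive degree drops the dimension by at most one.
-/

set_option autoImplicit false

universe u

open CategoryTheory CategoryTheory.Limits AlgebraicGeometry Topology CohB1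
open Groth.Agent Groth.Agent.VarietyB Groth.Agent.CohqB.ProjBC
open K426 K426.Charts K426.ProjCut K129.Coord

namespace K129.Bounds

/-- The index set of the coefficients. -/
abbrev Ix (n m : ℕ) : Type := Fin (n + 1) × Fin (n + 1) × Fin (m + 1)

/-- The form `∑ T_{ija} X_i^a X_j^{m-a}`. -/
noncomputable def uform {n m : ℕ} {A : Type u} [CommRing A] (T : Ix n m → A) :
    MvPolynomial (Fin (n + 1)) A :=
  ∑ p : Ix n m, MvPolynomial.C (T p) * MvPolynomial.X p.1 ^ (p.2.2 : ℕ) *
    MvPolynomial.X p.2.1 ^ (m - p.2.2 : ℕ)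

theorem map_uform {n m : ℕ} {A B : Type u} [CommRing A] [CommRing B] (φ : A →+* B) (T : Ix n m → A) :
    MvPolynomial.map φ (uform T) = uform (fun p => φ (T p)) := by
  simp [uform, map_sum]

theorem uform_mem {n m : ℕ} {A : Type u} [CommRing A] (T : Ix n m → A) :
    (uform T).IsHomogeneous m := by
  refine MvPolynomial.IsHomogeneous.sum _ _ _ fun p _ => ?_
  have h1 : (0 + (p.2.2 : ℕ)) + (m - p.2.2 : ℕ) = m := by
    have := p.2.2.2
    omega
  have h2 := ((MvPolynomial.isHomogeneous_C (Fin (n + 1)) (T p)).mul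
    (MvPolynomial.isHomogeneous_X_pow (R := A) p.1 p.2.2)).mul
    (MvPolynomial.isHomogeneous_X_pow (R := A) p.2.1 (m - p.2.2))
  rwa [h1] at h2

/-- A field valued point factors through the residue field. -/
theorem exists_desc {Y : Scheme.{u}} {F : Type u} [Field F] (y : Spec (CommRingCat.of F) ⟶ Y)
    (p : Spec (CommRingCat.of F)) (y0 : Y) (h : y p = y0) :
    ∃ ψ : Y.residueField y0 ⟶ CommRingCat.of F, Spec.map ψ ≫ Y.fromSpecResidueField y0 = y := by
  subst h
  have h0 : p = IsLocalRing.closedPoint F := Subsingleton.elim _ _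
  subst h0
  exact ⟨Y.descResidueField (Scheme.stalkClosedPointTo y), Y.descResidueField_stalkClosedPointTo_fromSpecResidueField F y⟩

section Upper

variable {k F : Type u} [Field k] [Field F] {n m d e : ℕ} {X Y Z : Scheme.{u}}
  [Y.Over (Spec (CommRingCat.of k))] [Z.Over (Spec (CommRingCat.of F))]

/-- The universal form of degree `m ≥ dim Y` does not vanish at points of relative dimension `d`. -/
theorem upper (i : X ⟶ ProjSpace n k) (π : X ⟶ Y) (φ : k →+* F) (y : Spec (CommRingCat.of F) ⟶ Y)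
    (hy : y ≫ (Y ↘ Spec (CommRingCat.of k)) = Spec.map (CommRingCat.ofHom φ))
    (a : Z ⟶ X) (j : Z ⟶ ProjSpace n F) [IsClosedImmersion j]
    (hj : j ≫ ProjSpace.toSpec n F = Z ↘ Spec (CommRingCat.of F))
    (sq : a ≫ π = (Z ↘ Spec (CommRingCat.of F)) ≫ y) (sq' : j ≫ pmap φ n = a ≫ i)
    (hub : ∀ x, Dual3.resTrdeg π x ≤ d) (he : ∀ y, ResMap.trd k Y y ≤ e) (hm : e ≤ m) (hd0 : 1 ≤ d)
    (T : Ix n m → F) (hT : letI := φ.toAlgebra; AlgebraicIndependent k T)
    (ζ : Z) (hζ : uform T ∈ idl (j ζ)) : ¬ ((d : Cardinal) ≤ ResMap.trd F Z ζ) := by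
  intro hd'
  obtain ⟨j0, hj0⟩ := PerfB.ProjSpaceCover.exists_mem_basicOpen_X n F (j ζ)
  have hζU : ζ ∈ U j (MvPolynomial.X j0) := hj0
  have hξU : a ζ ∈ U i (MvPolynomial.X j0) := by
    change i (a ζ) ∈ Proj.basicOpen (polyGrading n k) (MvPolynomial.X j0)
    have h1 : i (a ζ) = pmap φ n (j ζ) := by
      rw [← Scheme.Hom.comp_apply, ← Scheme.Hom.comp_apply, sq']
    rw [h1]
    exact (preimage_X φ n j0).ge hj0
  let z : Fin (n + 1) → X.residueField (a ζ) := fun l => val i j0 (a ζ) hξU (MvPolynomial.X l)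
  let _ : Algebra k (Y.residueField (π (a ζ))) := Curv2.resAlgebra k Y (π (a ζ))
  let _ : Algebra (Y.residueField (π (a ζ))) (X.residueField (a ζ)) :=
    (π.residueFieldMap (a ζ)).hom.toAlgebra
  let _ : Algebra (X.residueField (a ζ)) (Z.residueField ζ) := (a.residueFieldMap ζ).hom.toAlgebra
  let _ : Algebra F (Z.residueField ζ) := Curv2.resAlgebra F Z ζ
  let _ : Algebra k F := φ.toAlgebra
  have hyp : y ((Z ↘ Spec (CommRingCat.of F)) ζ) = π (a ζ) := by
    rw [← Scheme.Hom.comp_apply, ← Scheme.Hom.comp_apply, sq]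
  obtain ⟨ψ, hψ⟩ := exists_desc y _ _ hyp
  let _ : Algebra (Y.residueField (π (a ζ))) F := ψ.hom.toAlgebra
  let _ : Algebra (Y.residueField (π (a ζ))) (Z.residueField ζ) :=
    ((a.residueFieldMap ζ).hom.comp (π.residueFieldMap (a ζ)).hom).toAlgebra
  have _ : IsScalarTower (Y.residueField (π (a ζ))) (X.residueField (a ζ)) (Z.residueField ζ) :=
    IsScalarTower.of_algebraMap_eq' rfl
  have _ : IsScalarTower k (Y.residueField (π (a ζ))) F := by
    refine IsScalarTower.of_algebraMap_eq' ?_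
    have h1 : CommRingCat.ofHom φ = CommRingCat.ofHom (Curv2.resMap k Y (π (a ζ))) ≫ ψ := by
      apply Spec.map_injective
      rw [Spec.map_comp, ResMap.specMap_resMap, ← Category.assoc, hψ, hy]
    exact congrArg CommRingCat.Hom.hom h1
  have _ : IsScalarTower (Y.residueField (π (a ζ))) F (Z.residueField ζ) := by
    refine IsScalarTower.of_algebraMap_eq' ?_
    have h1 : π.residueFieldMap (a ζ) ≫ a.residueFieldMap ζ =
        ψ ≫ CommRingCat.ofHom (Curv2.resMap F Z ζ) := by
      apply Spec.map_injective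
      rw [← cancel_mono (Y.fromSpecResidueField (π (a ζ))), Spec.map_comp, Spec.map_comp,
        Category.assoc, Category.assoc, hψ, ResMap.specMap_resMap,
        Scheme.Hom.SpecMap_residueFieldMap_fromSpecResidueField,
        Scheme.Hom.SpecMap_residueFieldMap_fromSpecResidueField_assoc, Category.assoc, ← sq]
    exact congrArg CommRingCat.Hom.hom h1
  have hz : ∀ l, algebraMap (X.residueField (a ζ)) (Z.residueField ζ) (z l) =
      val j j0 ζ hζU (MvPolynomial.X l) := by
    intro l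
    have := val_map φ i j a sq' j0 ζ hζU hξU (MvPolynomial.X l)
    rw [MvPolynomial.map_X] at this
    exact this
  have hC : ∀ c : F, val j j0 ζ hζU (MvPolynomial.C c) = algebraMap F (Z.residueField ζ) c :=
    fun c => val_C j hj j0 ζ hζU c
  have hmem : ∀ f, val j j0 ζ hζU f ∈ Algebra.adjoin F (Set.range fun l =>
      algebraMap (X.residueField (a ζ)) (Z.residueField ζ) (z l)) := by
    intro f
    induction f using MvPolynomial.induction_on with
    | C c => rw [hC]; exact Subalgebra.algebraMap_mem _ _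
    | add p q hp hq => rw [map_add]; exact add_mem hp hq
    | mul_X p l hp =>
      rw [map_mul]
      exact mul_mem hp (Algebra.subset_adjoin ⟨l, hz l⟩)
  have halg : Algebra.IsAlgebraic (Algebra.adjoin F (Set.range fun l =>
      algebraMap (X.residueField (a ζ)) (Z.residueField ζ) (z l))) (Z.residueField ζ) := by
    refine ⟨fun c => ?_⟩
    obtain ⟨f, g, -, rfl⟩ := exists_val j j0 ζ hζU c
    rw [div_eq_mul_inv]
    have h1 : ∀ f, IsAlgebraic (Algebra.adjoin F (Set.range fun l =>
      algebraMap (X.residueField (a ζ)) (Z.residueField ζ) (z l))) (val j j0 ζ hζU f) := fun f =>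
      isAlgebraic_algebraMap (⟨_, hmem f⟩ : Algebra.adjoin F (Set.range fun l =>
      algebraMap (X.residueField (a ζ)) (Z.residueField ζ) (z l)))
    exact (h1 f).mul (h1 g).inv
  refine AlgCoeff.form_ne_zero (k := k) (he (π (a ζ))) (hub (a ζ)) hd' hd0 hm T hT z j0
    (val_self i j0 (a ζ) hξU) halg ?_
  have h0 := val_eq_zero j j0 ζ hζU ((MvPolynomial.mem_homogeneousSubmodule _ _).mpr (uform_mem T)) hζ
  rw [← h0, uform, map_sum]
  refine Finset.sum_congr rfl fun p _ => ?_
  rw [map_mul, map_mul, map_pow, map_pow, hC, hz, hz]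

end Upper

section Lower

variable {F : Type u} [Field F] {n : ℕ} {Z Z' : Scheme.{u}}
  [Z.Over (Spec (CommRingCat.of F))] [Z'.Over (Spec (CommRingCat.of F))]

theorem lower (j : Z ⟶ ProjSpace n F) [IsClosedImmersion j]
    (hj : j ≫ ProjSpace.toSpec n F = Z ↘ Spec (CommRingCat.of F))
    (i' : Z' ⟶ Z) [IsClosedImmersion i']
    (hi' : i' ≫ (Z ↘ Spec (CommRingCat.of F)) = Z' ↘ Spec (CommRingCat.of F))
    {f : MvPolynomial (Fin (n + 1)) F} {m : ℕ} (hf : f.IsHomogeneous m) (hm : 0 < m)
    (hr : ∀ z : Z, f ∈ idl (j z) → z ∈ Set.range i') {d : ℕ}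
    (hd : ((d + 1 : ℕ) : WithBot ℕ∞) ≤ topologicalKrullDim Z) :
    ((d : ℕ) : WithBot ℕ∞) ≤ topologicalKrullDim Z' := by
  have h0 : LocallyOfFiniteType (Z ↘ Spec (CommRingCat.of F)) := by
    rw [← hj]
    have : LocallyOfFiniteType (ProjSpace.toSpec n F) := locallyOfFiniteType_over F n
    infer_instance
  have h0' : LocallyOfFiniteType (Z' ↘ Spec (CommRingCat.of F)) := by
    rw [← hi']
    infer_instance
  obtain ⟨ζ, hζ⟩ := (DimKit.le_dim_iff F Z (d + 1)).mp hd
  have htrd : ∀ z : Z, DimSch.trd F _ (j z) = DimSch.trd F Z z := fun z => by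
    have := ResMap.trd_eq F j hj z
    rw [DimKit.trd_cast, DimKit.trd_cast] at this
    exact_mod_cast this
  have htrd' : ∀ z : Z', DimSch.trd F _ (i' z) = DimSch.trd F Z' z := fun z => by
    have := ResMap.trd_eq F i' hi' z
    rw [DimKit.trd_cast, DimKit.trd_cast] at this
    exact_mod_cast this
  rw [← htrd] at hζ
  obtain ⟨z, hz, hfz⟩ := exists_mem_of_pos (j ζ) (by omega) f m hm hf
  obtain ⟨c, hc, hcz, hmax⟩ := exists_max (T := ProjSpace n F)
    (W := closure {j ζ} ∩ {z | f ∈ idl z})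
    (isClosed_closure.inter (isClosed_setOf_mem f)) z
    ⟨specializes_iff_mem_closure.mp hz, hfz⟩
  have h1 := trd_le_add F (specializes_iff_mem_closure.mpr hc.1) (r := 1) (fun _ => f)
    (fun _ => m) (fun _ => hf) (fun _ => hc.2)
    (fun w hw hw' hw'' => hmax w ⟨specializes_iff_mem_closure.mp hw, hw'' 0⟩ hw')
  have hcl : IsClosed (Set.range j) := j.isClosedMap.isClosed_range
  obtain ⟨ζ', rfl⟩ : c ∈ Set.range j :=
    (specializes_iff_mem_closure.mpr hc.1).mem_closed hcl ⟨ζ, rfl⟩
  obtain ⟨ζ'', rfl⟩ := hr ζ' hc.2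
  refine (DimKit.le_dim_iff F Z' d).mpr ⟨ζ'', ?_⟩
  rw [htrd, htrd, htrd'] at h1
  rw [htrd] at hζ
  omega

end Lower

end K129.Bounds
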