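import Groth.Agent.Variety.K426.Charts
import Groth.Agent.Variety.K426.ProjCut
import Groth.Agent.CohqB.ProjBC
import Groth.Agent.CycB.AffinePt
import Groth.Agent.CycB.DimIneq

/-!
# Homogeneous coordinates of points

For `ι : X ⟶ P^n_k` and `x : X` with `ι x ∈ D_+(X_i)` the ring homomorphism `val : k[X_0..X_n] →+* κ(x)`,
`X_j ↦ (X_j / X_i)(x)`; compatibility with base change along `pmap φ n : P^n_F ⟶ P^n_k`.
-/

set_option autoImplicit false

universe u

open CategoryTheory CategoryTheory.Limits AlgebraicGeometry Topology CohB1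
open Groth.Agent Groth.Agent.VarietyB Groth.Agent.VarietyB.ProjGlue Groth.Agent.VarietyB.ProjStd
open Groth.Agent.Picfga.ProjGlue Groth.Agent.CohqB.ProjBC
open K426 K426.Charts K426.ProjCut

namespace K129.Coord

attribute [local instance] DimSch.secAlgebra

section

variable {R : Type u} [CommRing R] {n : ℕ}

theorem evP_homog {l : MvPolynomial (Fin (n + 1)) R}
    (hl : l ∈ MvPolynomial.homogeneousSubmodule (Fin (n + 1)) R 1) {m : ℕ}
    {a : MvPolynomial (Fin (n + 1)) R}
    (ha : a ∈ MvPolynomial.homogeneousSubmodule (Fin (n + 1)) R m) :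
    (Proj (polyGrading n R)).basicOpen (Deh.evP (Fin (n + 1)) R hl a) =
      Proj.basicOpen (polyGrading n R) l ⊓ Proj.basicOpen (polyGrading n R) a := by
  have ha' : a ∈ MvPolynomial.homogeneousSubmodule (Fin (n + 1)) R (m • 1) := by simpa using ha
  have h1 := Deh.deh_of_isHomogeneous (Fin (n + 1)) R hl a ha'
  have h2 : Deh.evP (Fin (n + 1)) R hl a =
      (Proj.awayToSection (polyGrading n R) l).hom (HomogeneousLocalization.Away.mk _ hl m a ha') :=
    congrArg (Proj.awayToSection (polyGrading n R) l).hom h1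
  rw [h2, awayToSection_mk]
  exact basicOpen_frac (𝒜 := polyGrading n R) a (l ^ m) _ _ _

end

section Val

variable {k : Type u} [Field k] {N : ℕ} {X : Scheme.{u}} [X.Over (Spec (CommRingCat.of k))]
  (ι : X ⟶ ProjSpace N k) (hι : ι ≫ ProjSpace.toSpec N k = X ↘ Spec (CommRingCat.of k))

/-- The value of a polynomial at a point, normalized by `X_i = 1`. -/
noncomputable def val (i : Fin (N + 1)) (x : X) (hx : x ∈ U ι (MvPolynomial.X i)) :
    MvPolynomial (Fin (N + 1)) k →+* X.residueField x :=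
  (X.evaluation (U ι (MvPolynomial.X i)) x hx).hom.comp (E ι (X_mem N i))

variable (i : Fin (N + 1)) (x : X) (hx : x ∈ U ι (MvPolynomial.X i))

include hι in
theorem val_C (c : k) : val ι i x hx (MvPolynomial.C c) = Curv2.resMap k X x c := by
  change (X.evaluation (U ι (MvPolynomial.X i)) x hx).hom (E ι (X_mem N i) (MvPolynomial.C c)) = _
  rw [E_C ι hι (X_mem N i)]
  have h := DimSch.germ_toSections k X (U ι (MvPolynomial.X i)) x hx c
  exact congrArg (X.residue x).hom h

omit [X.Over (Spec (CommRingCat.of k))] in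
theorem val_self : val ι i x hx (MvPolynomial.X i) = 1 := by
  change (X.evaluation (U ι (MvPolynomial.X i)) x hx).hom (E ι (X_mem N i) (MvPolynomial.X i)) = _
  rw [E_self, map_one]

omit [X.Over (Spec (CommRingCat.of k))] in
theorem val_eq_zero {m : ℕ} {f : MvPolynomial (Fin (N + 1)) k}
    (hf : f ∈ MvPolynomial.homogeneousSubmodule (Fin (N + 1)) k m) (h : f ∈ idl (ι x)) :
    val ι i x hx f = 0 := by
  change X.evaluation (U ι (MvPolynomial.X i)) x hx (E ι (X_mem N i) f) = 0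
  rw [Scheme.evaluation_eq_zero_iff_notMem_basicOpen]
  intro h1
  have h2 : E ι (X_mem N i) f = ι.app (D (MvPolynomial.X i))
      (Deh.evP (Fin (N + 1)) k (X_mem N i) f) := rfl
  rw [h2] at h1
  have h1' : x ∈ ι ⁻¹ᵁ (ProjSpace N k).basicOpen (Deh.evP (Fin (N + 1)) k (X_mem N i) f) :=
    (Scheme.preimage_basicOpen ι _).ge h1
  have h3 := evP_homog (X_mem N i) hf
  have h4 : ι x ∈ (Proj (polyGrading N k)).basicOpen (Deh.evP (Fin (N + 1)) k (X_mem N i) f) := h1'
  rw [h3] at h4
  exact h4.2 h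

omit [X.Over (Spec (CommRingCat.of k))] in
theorem exists_val [IsClosedImmersion ι] (c : X.residueField x) :
    ∃ a b : MvPolynomial (Fin (N + 1)) k, val ι i x hx b ≠ 0 ∧ c = val ι i x hx a / val ι i x hx b := by
  obtain ⟨a, b, hb, h⟩ := CycB.AffinePt.evaluation_frac (isAffineOpen_U ι (X_mem N i)) hx c
  obtain ⟨a, rfl⟩ := E_surjective ι (X_mem N i) a
  obtain ⟨b, rfl⟩ := E_surjective ι (X_mem N i) b
  exact ⟨a, b, hb, h⟩

end Val

section BaseChange

variable {A B : Type u} [CommRing A] [CommRing B] (φ : A →+* B) (n : ℕ)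

theorem preimage_basicOpen (f : MvPolynomial (Fin (n + 1)) A) :
    pmap φ n ⁻¹ᵁ Proj.basicOpen (polyGrading n A) f =
      Proj.basicOpen (polyGrading n B) (MvPolynomial.map φ f) :=
  Proj.map_preimage_basicOpen (gmap φ n) (irrelevant_le φ n) _

theorem preimage_X (i : Fin (n + 1)) :
    pmap φ n ⁻¹ᵁ Proj.basicOpen (polyGrading n A) (MvPolynomial.X i) =
      Proj.basicOpen (polyGrading n B) (MvPolynomial.X i) := by
  rw [preimage_basicOpen, MvPolynomial.map_X]

theorem pmap_comp {C : Type u} [CommRing C] (ψ : B →+* C) :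
    pmap ψ n ≫ pmap φ n = pmap (ψ.comp φ) n := by
  have h1 : (gmap ψ n).comp (gmap φ n) = gmap (ψ.comp φ) n := by
    ext x : 1
    exact MvPolynomial.map_map φ ψ x
  refine (Proj.map_comp _ _ _ _).symm.trans ?_
  unfold pmap
  congr 1

theorem appLE_evP (i : Fin (n + 1)) (f : MvPolynomial (Fin (n + 1)) A) :
    ((pmap φ n).appLE (Proj.basicOpen (polyGrading n A) (MvPolynomial.X i))
      (Proj.basicOpen (polyGrading n B) (MvPolynomial.X i)) (preimage_X φ n i).ge).hom
        (Deh.evP (Fin (n + 1)) A (X_mem n i) f) =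
      Deh.evP (Fin (n + 1)) B (X_mem n i) (MvPolynomial.map φ f) := by
  have key : ∀ (s : MvPolynomial (Fin (n + 1)) B) (_ : gmap φ n (MvPolynomial.X i) = s)
      (hs1 : s ∈ polyGrading n B 1)
      (e : Proj.basicOpen (polyGrading n B) s ≤
        pmap φ n ⁻¹ᵁ Proj.basicOpen (polyGrading n A) (MvPolynomial.X i)),
      ((pmap φ n).appLE (Proj.basicOpen (polyGrading n A) (MvPolynomial.X i))
        (Proj.basicOpen (polyGrading n B) s) e).hom (Deh.evP (Fin (n + 1)) A (X_mem n i) f) =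
        Deh.evP (Fin (n + 1)) B hs1 (MvPolynomial.map φ f) := by
    intro s hs hs1 e
    subst hs
    have h1 := Proj.awayToSection_comp_appLE (gmap φ n) (irrelevant_le φ n) (X_mem n i)
    have h2 := ConcreteCategory.congr_hom h1 (chartHom n i f)
    refine h2.trans ?_
    change (Proj.awayToSection (polyGrading n B) _).hom
      (HomogeneousLocalization.Away.map (gmap φ n) (MvPolynomial.X i) (chartHom n i f)) = _
    rw [map_chartHom]
    rfl
  exact key (MvPolynomial.X i) (by simp) (X_mem n i) _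

end BaseChange

theorem val_map {k F : Type u} [Field k] [Field F] (φ : k →+* F) {n : ℕ} {X Z : Scheme.{u}}
    (i : X ⟶ ProjSpace n k) (j : Z ⟶ ProjSpace n F) (a : Z ⟶ X) (sq : j ≫ pmap φ n = a ≫ i)
    (i0 : Fin (n + 1)) (ζ : Z) (hζ : ζ ∈ U j (MvPolynomial.X i0))
    (hξ : a ζ ∈ U i (MvPolynomial.X i0)) (f : MvPolynomial (Fin (n + 1)) k) :
    (a.residueFieldMap ζ).hom (val i i0 (a ζ) hξ f) = val j i0 ζ hζ (MvPolynomial.map φ f) := by
  have e : U j (MvPolynomial.X i0) ≤ a ⁻¹ᵁ U i (MvPolynomial.X i0) := by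
    have h1 : a ⁻¹ᵁ U i (MvPolynomial.X i0) = (j ≫ pmap φ n) ⁻¹ᵁ D (MvPolynomial.X i0) := by
      rw [sq]; rfl
    rw [h1, Scheme.Hom.comp_preimage]
    exact (congrArg (j ⁻¹ᵁ ·) (preimage_X φ n i0)).ge
  have h1 := CycB.DimIneq.evaluation_appLE a (U i (MvPolynomial.X i0)) (U j (MvPolynomial.X i0)) e ζ hζ
    (E i (X_mem n i0) f)
  refine h1.trans ?_
  change (Z.evaluation (U j (MvPolynomial.X i0)) ζ hζ).hom _ =
    (Z.evaluation (U j (MvPolynomial.X i0)) ζ hζ).hom (E j (X_mem n i0) (MvPolynomial.map φ f))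
  congr 1
  have h2 := Scheme.Hom.appLE_comp_appLE a i (D (MvPolynomial.X i0)) (U i (MvPolynomial.X i0))
    (U j (MvPolynomial.X i0)) le_rfl e
  have h3 := Scheme.Hom.appLE_comp_appLE j (pmap φ n) (D (MvPolynomial.X i0)) (D (MvPolynomial.X i0))
    (U j (MvPolynomial.X i0)) (preimage_X φ n i0).ge le_rfl
  have h4 : ∀ (p q : Z ⟶ ProjSpace n k) (_ : p = q) (e1 : U j (MvPolynomial.X i0) ≤ p ⁻¹ᵁ D (MvPolynomial.X i0))
      (e2 : U j (MvPolynomial.X i0) ≤ q ⁻¹ᵁ D (MvPolynomial.X i0)),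
      p.appLE (D (MvPolynomial.X i0)) (U j (MvPolynomial.X i0)) e1 =
        q.appLE (D (MvPolynomial.X i0)) (U j (MvPolynomial.X i0)) e2 := by
    rintro p q rfl _ _; rfl
  have h5 := h2.trans ((h4 _ _ sq.symm _ _).trans h3.symm)
  have h6 := congr($(h5).hom (Deh.evP (Fin (n + 1)) k (X_mem n i0) f))
  have h7 : (a.appLE (U i (MvPolynomial.X i0)) (U j (MvPolynomial.X i0)) e).hom (E i (X_mem n i0) f) =
      (j.appLE (D (MvPolynomial.X i0)) (U j (MvPolynomial.X i0)) le_rfl).hom
        (((pmap φ n).appLE (D (MvPolynomial.X i0)) (D (MvPolynomial.X i0)) (preimage_X φ n i0).ge).hom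
          (Deh.evP (Fin (n + 1)) k (X_mem n i0) f)) := by
    refine Eq.trans ?_ h6
    change _ = (a.appLE _ _ _).hom ((i.appLE _ _ _).hom _)
    rw [← Scheme.Hom.app_eq_appLE]
    rfl
  rw [h7]
  change (j.appLE (D (MvPolynomial.X i0)) (U j (MvPolynomial.X i0)) le_rfl).hom
    (((pmap φ n).appLE (Proj.basicOpen (polyGrading n k) (MvPolynomial.X i0))
      (Proj.basicOpen (polyGrading n F) (MvPolynomial.X i0)) (preimage_X φ n i0).ge).hom
        (Deh.evP (Fin (n + 1)) k (X_mem n i0) f)) = _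
  rw [appLE_evP, ← Scheme.Hom.app_eq_appLE]
  rfl

end K129.Coord
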