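import Groth.Agent.IntSh.K129.Bounds
import Groth.Agent.IntSh.K129.FibDim
import Groth.Agent.S0402
import Mathlib.RingTheory.Jacobson.Ring

/-!
# The family of hypersurface sections of a projective `X` over `Y`

For `i : X ⟶ P^n_k` closed, `π : X ⟶ Y`, `c : k →+* A` and a form `S` over `A`: `XA ⊆ P^n_A`, `πA : XA ⟶ YA`,
`XS = XA ∩ V(S)`.
-/

set_option autoImplicit false

universe u

open CategoryTheory CategoryTheory.Limits AlgebraicGeometry Topology CohB1
open Groth.Agent Groth.Agent.VarietyB Groth.Agent.CohqB.ProjBC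
open K426 K426.ProjCut K129.Coord K129.Bounds

namespace K129.Fam

section Geo

variable {k : Type u} [Field k] {n : ℕ} {X Y : Scheme.{u}} (i : X ⟶ ProjSpace n k)
  (sY : Y ⟶ Spec (CommRingCat.of k)) (π : X ⟶ Y) (hπ : π ≫ sY = i ≫ ProjSpace.toSpec n k)
  {A : Type u} [CommRing A] (c : k →+* A)

/-- `X_A` -/
noncomputable abbrev XA : Scheme.{u} := pullback i (pmap c n)

/-- `X_A ⟶ P^n_A` -/
noncomputable abbrev iA : XA i c ⟶ ProjSpace n A := pullback.snd i (pmap c n)

/-- `Y_A` -/
noncomputable abbrev YA : Scheme.{u} := pullback sY (Spec.map (CommRingCat.ofHom c))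

/-- `Y_A ⟶ Spec A` -/
noncomputable abbrev sA : YA sY c ⟶ Spec (CommRingCat.of A) := pullback.snd sY _

/-- `X_A ⟶ Y_A` -/
noncomputable def πA : XA i c ⟶ YA sY c :=
  pullback.lift (pullback.fst i (pmap c n) ≫ π) (iA i c ≫ ProjSpace.toSpec n A) (by
    rw [Category.assoc, hπ, pullback.condition_assoc, Category.assoc, pmap_toSpec])

theorem πA_sA : πA i sY π hπ c ≫ sA sY c = iA i c ≫ ProjSpace.toSpec n A := pullback.lift_snd _ _ _

theorem πA_fst : πA i sY π hπ c ≫ pullback.fst _ _ = pullback.fst i (pmap c n) ≫ π :=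
  pullback.lift_fst _ _ _

theorem isPullback_πA : IsPullback (pullback.fst i (pmap c n)) (πA i sY π hπ c) π
    (pullback.fst sY (Spec.map (CommRingCat.ofHom c))) := by
  refine IsPullback.of_bot (h₃₁ := Spec.map (CommRingCat.ofHom c)) (v₂₁ := sA sY c) (v₂₂ := sY) ?_
    (πA_fst i sY π hπ c).symm (IsPullback.of_hasPullback _ _)
  rw [πA_sA, hπ]
  exact (IsPullback.of_hasPullback i (pmap c n)).paste_vert (isPullback_pmap c n)

section Fibre

variable {F : Type u} [CommRing F] (φ : A →+* F) (y : Spec (CommRingCat.of F) ⟶ YA sY c)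
  (hy : y ≫ sA sY c = Spec.map (CommRingCat.ofHom φ))

include hy in
/-- The fibre of `X_A ⟶ Y_A` over an `F`-valued point is closed in `P^n_F`. -/
theorem exists_j [IsClosedImmersion i] [IsSeparated sY] :
    ∃ j : pullback (πA i sY π hπ c) y ⟶ ProjSpace n F, IsClosedImmersion j ∧
      j ≫ pmap φ n = pullback.fst _ _ ≫ iA i c ∧
      j ≫ ProjSpace.toSpec n F = pullback.snd _ _ := by
  let V := pullback (πA i sY π hπ c ≫ sA sY c) (y ≫ sA sY c)
  let jV : V ⟶ ProjSpace n F := (isPullback_pmap φ n).lift (pullback.fst _ _ ≫ iA i c)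
    (pullback.snd _ _) (by
      rw [Category.assoc, ← πA_sA i sY π hπ c, ← hy]
      exact pullback.condition)
  have h1 : jV ≫ pmap φ n = pullback.fst _ _ ≫ iA i c := (isPullback_pmap φ n).lift_fst _ _ _
  have h2 : jV ≫ ProjSpace.toSpec n F = pullback.snd _ _ := (isPullback_pmap φ n).lift_snd _ _ _
  have h3 : IsPullback (pullback.fst _ _ : V ⟶ XA i c) jV (iA i c) (pmap φ n) := by
    refine IsPullback.of_bot (h₃₁ := Spec.map (CommRingCat.ofHom φ)) (v₂₁ := ProjSpace.toSpec n F)
      (v₂₂ := ProjSpace.toSpec n A) ?_ h1.symm (isPullback_pmap φ n)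
    rw [h2, ← hy, ← πA_sA i sY π hπ c]
    exact IsPullback.of_hasPullback _ _
  have h4 : IsClosedImmersion jV := MorphismProperty.of_isPullback h3 inferInstance
  refine ⟨pullback.mapDesc (πA i sY π hπ c) y (sA sY c) ≫ jV, inferInstance, ?_, ?_⟩
  · rw [Category.assoc, h1, ← Category.assoc]
    congr 1
    exact pullback.lift_fst _ _ _ |>.trans (Category.comp_id _)
  · rw [Category.assoc, h2]
    exact pullback.lift_snd _ _ _ |>.trans (Category.comp_id _)

end Fibre

variable (S : MvPolynomial (Fin (n + 1)) A)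

/-- The open `S ≠ 0`. -/
noncomputable def DS : (ProjSpace n A).Opens := Proj.basicOpen (polyGrading n A) S

/-- The ideal sheaf of the zero locus (reduced). -/
noncomputable def HI : (ProjSpace n A).IdealSheafData :=
  Scheme.IdealSheafData.vanishingIdeal ⟨(DS S : Set (ProjSpace n A))ᶜ, (DS S).isOpen.isClosed_compl⟩

theorem range_HI : Set.range (HI S).subschemeι = (DS S : Set (ProjSpace n A))ᶜ := by
  rw [HI, Scheme.IdealSheafData.range_subschemeι, Scheme.IdealSheafData.coe_support_vanishingIdeal]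
  rfl

/-- `X_A ∩ V(S)` -/
noncomputable abbrev XS : Scheme.{u} := pullback (iA i c) (HI S).subschemeι

/-- `X_A ∩ V(S) ⟶ X_A` -/
noncomputable abbrev gS : XS i c S ⟶ XA i c := pullback.fst _ _

theorem mem_range_gS (x : XA i c) : x ∈ Set.range (gS i c S) ↔
    iA i c x ∉ DS S := by
  rw [Scheme.Pullback.range_fst, Set.mem_preimage, range_HI]
  rfl

/-- `X_A ∩ V(S) ⟶ Y_A` -/
noncomputable abbrev fS : XS i c S ⟶ YA sY c := gS i c S ≫ πA i sY π hπ c

section FibreS

variable {T : Scheme.{u}} (y : T ⟶ YA sY c)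

/-- Inclusion of the fibres. -/
noncomputable def wS : pullback (fS i sY π hπ c S) y ⟶ pullback (πA i sY π hπ c) y :=
  pullback.lift (pullback.fst _ _ ≫ gS i c S) (pullback.snd _ _) (by
    rw [Category.assoc]; exact pullback.condition)

theorem wS_snd : wS i sY π hπ c S y ≫ pullback.snd _ _ = pullback.snd _ _ := pullback.lift_snd _ _ _

theorem wS_fst : wS i sY π hπ c S y ≫ pullback.fst _ _ = pullback.fst _ _ ≫ gS i c S :=
  pullback.lift_fst _ _ _

theorem isPullback_wS : IsPullback (wS i sY π hπ c S y) (pullback.fst _ _) (pullback.fst _ _)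
    (gS i c S) := by
  refine IsPullback.of_right (h₁₂ := pullback.snd _ _) (v₁₃ := y) (h₂₂ := πA i sY π hπ c) ?_
    (wS_fst i sY π hπ c S y) (IsPullback.of_hasPullback _ _).flip
  rw [wS_snd]
  exact (IsPullback.of_hasPullback (fS i sY π hπ c S) y).flip

instance [IsClosedImmersion i] : IsClosedImmersion (wS i sY π hπ c S y) :=
  MorphismProperty.of_isPullback (isPullback_wS i sY π hπ c S y).flip
    (inferInstanceAs (IsClosedImmersion (gS i c S)))

theorem mem_range_wS (z : ↥(pullback (πA i sY π hπ c) y)) :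
    z ∈ Set.range (wS i sY π hπ c S y) ↔
      iA i c (pullback.fst (πA i sY π hπ c) y z) ∉ DS S := by
  rw [← mem_range_gS i c S]
  constructor
  · rintro ⟨w, rfl⟩
    refine ⟨(pullback.fst (fS i sY π hπ c S) y) w, ?_⟩
    rw [← Scheme.Hom.comp_apply, ← Scheme.Hom.comp_apply, wS_fst]
  · rintro ⟨x, hx⟩
    obtain ⟨w, hw, -⟩ := Scheme.exists_preimage_of_isPullback (isPullback_wS i sY π hπ c S y) z x hx.symm
    exact ⟨w, hw⟩

end FibreS

theorem mem_range_iff {F : Type u} [Field F] (φ : A →+* F) (y : Spec (CommRingCat.of F) ⟶ YA sY c)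
    (j : pullback (πA i sY π hπ c) y ⟶ ProjSpace n F)
    (hj : j ≫ pmap φ n = pullback.fst _ _ ≫ iA i c) (z : ↥(pullback (πA i sY π hπ c) y)) :
    z ∈ Set.range (wS i sY π hπ c S y) ↔ MvPolynomial.map φ S ∈ idl (j z) := by
  rw [mem_range_wS, ← Scheme.Hom.comp_apply, ← hj, Scheme.Hom.comp_apply]
  have h1 := preimage_basicOpen φ n S
  have h2 : pmap φ n (j z) ∈ DS S ↔ j z ∈ DS (MvPolynomial.map φ S) := by
    unfold DS
    rw [← h1]; rfl
  rw [h2]
  exact not_not

end Geo

end K129.Fam
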