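import Groth.Agent.IntSh.K129.Fam
import Groth.Agent.Variety.K426.ProjGen
import Groth.Agent.Variety.K426.DimFib
import Mathlib.RingTheory.Jacobson.Ring
import Mathlib.AlgebraicGeometry.ZariskisMainTheorem

/-!
# One hypersurface section, after a finite extension of the base field
-/

set_option autoImplicit false

universe u

open CategoryTheory CategoryTheory.Limits AlgebraicGeometry Topology CohB1
open Groth.Agent Groth.Agent.VarietyB Groth.Agent.CohqB.ProjBC
open K426 K426.ProjCut K129.Coord K129.Bounds K129.Fam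

namespace K129.Step

theorem isFinite_of_dim_zero {X Y : Scheme.{u}} (f : X ⟶ Y) [IsProper f]
    (h : ∀ y, topologicalKrullDim (f.fiber y) ≤ 0) : IsFinite f := by
  have : LocallyQuasiFinite f := by
    refine LocallyQuasiFinite.of_finite_preimage_singleton f fun y => ?_
    have : LocallyOfFiniteType (f.fiberToSpecResidueField y) :=
      inferInstanceAs (LocallyOfFiniteType (Limits.pullback.snd f (Y.fromSpecResidueField y)))
    have : IsLocallyNoetherian (f.fiber y) :=
      LocallyOfFiniteType.isLocallyNoetherian (f.fiberToSpecResidueField y)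
    have := IsLocallyArtinian.of_topologicalKrullDim_le_zero (h y)
    have : CompactSpace (f.fiber y) := inferInstance
    have : Finite (f.fiber y) := finite_of_compact_of_discrete
    rw [← Scheme.Hom.range_fiberι]
    exact Set.finite_range _
  exact IsFinite.of_isProper_of_locallyQuasiFinite f

theorem surjective_of_dim {X Y : Scheme.{u}} (f : X ⟶ Y) (d : ℕ)
    (h : ∀ y, topologicalKrullDim (f.fiber y) = d) : Surjective f := by
  refine ⟨fun y => ?_⟩
  have hne : Nonempty (f.fiber y) := by
    by_contra hemp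
    rw [not_nonempty_iff] at hemp
    have h1 : topologicalKrullDim (f.fiber y) = ⊥ := by
      unfold topologicalKrullDim
      rw [Order.krullDim_eq_bot_iff]
      exact ⟨fun s => (s.isIrreducible.nonempty.some : f.fiber y) |> hemp.elim⟩
    have h2 := h y
    rw [h1] at h2
    exact absurd h2 (by simp)
  obtain ⟨z⟩ := hne
  have h3 : f.fiberι y z ∈ (f : X → Y) ⁻¹' {y} := by
    rw [← Scheme.Hom.range_fiberι]
    exact ⟨z, rfl⟩
  exact ⟨f.fiberι y z, h3⟩

section Geo

variable {k : Type u} [Field k] {n : ℕ} {X Y : Scheme.{u}} (i : X ⟶ ProjSpace n k)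
  [IsClosedImmersion i] (sY : Y ⟶ Spec (CommRingCat.of k)) [IsSeparated sY]
  (π : X ⟶ Y) (hπ : π ≫ sY = i ≫ ProjSpace.toSpec n k)

instance isProper_iA {A : Type u} [CommRing A] (c : k →+* A) :
    IsProper (iA i c ≫ ProjSpace.toSpec n A) := by
  have h2 := ProjSpaceProper.isProper_toSpec n A
  infer_instance

instance isProper_πA {A : Type u} [CommRing A] (c : k →+* A) : IsProper (πA i sY π hπ c) := by
  have h1 : IsProper (πA i sY π hπ c ≫ sA sY c) := by
    rw [πA_sA]; infer_instance
  exact IsProper.of_comp _ (sA sY c)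

include hπ in
theorem isProper_π : IsProper π := by
  have h1 : IsProper (π ≫ sY) := by
    rw [hπ]
    have h2 := ProjSpaceProper.isProper_toSpec n k
    infer_instance
  exact IsProper.of_comp _ sY

/-- Generic upper bound. -/
theorem dim_le_of_injective {d e m : ℕ} {F : Type u} [Field F]
    (φ : MvPolynomial (Ix n m) k →+* F) (hφ : Function.Injective φ)
    (y : Spec (CommRingCat.of F) ⟶ YA sY (MvPolynomial.C : k →+* MvPolynomial (Ix n m) k))
    (hy : y ≫ sA sY MvPolynomial.C = Spec.map (CommRingCat.ofHom φ))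
    (hub : ∀ x, Dual3.resTrdeg π x ≤ ((d + 1 : ℕ) : Cardinal))
    (he : letI : Y.Over (Spec (CommRingCat.of k)) := ⟨sY⟩; ∀ y, ResMap.trd k Y y ≤ e) (hm : e ≤ m) :
    topologicalKrullDim ↥(pullback (fS i sY π hπ MvPolynomial.C
      (uform (MvPolynomial.X : Ix n m → MvPolynomial (Ix n m) k))) y) ≤ d := by
  let c : k →+* MvPolynomial (Ix n m) k := MvPolynomial.C
  let S := uform (MvPolynomial.X : Ix n m → MvPolynomial (Ix n m) k)
  let _ : (pullback (fS i sY π hπ c S) y).Over (Spec (CommRingCat.of F)) := ⟨pullback.snd _ _⟩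
  let _ : (pullback (πA i sY π hπ c) y).Over (Spec (CommRingCat.of F)) := ⟨pullback.snd _ _⟩
  let _ : Y.Over (Spec (CommRingCat.of k)) := ⟨sY⟩
  have _ : LocallyOfFiniteType (pullback (fS i sY π hπ c S) y ↘ Spec (CommRingCat.of F)) :=
    inferInstanceAs (LocallyOfFiniteType (pullback.snd (fS i sY π hπ c S) y))
  refine (EtpbcA.Artin.topologicalKrullDim_le_iff_trd F
    (pullback (fS i sY π hπ c S) y) d).mpr fun ζ' => ?_
  by_contra hcon
  push Not at hcon
  obtain ⟨j, hj1, hj2, hj3⟩ := exists_j i sY π hπ c φ y hy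
  have h1 : ResMap.trd F (pullback (πA i sY π hπ c) y) (wS i sY π hπ c S y ζ') =
      ResMap.trd F (pullback (fS i sY π hπ c S) y) ζ' :=
    ResMap.trd_eq F (wS i sY π hπ c S y) (wS_snd i sY π hπ c S y) ζ'
  refine upper (k := k) (F := F) (m := m) (d := d + 1) (e := e) i π (φ.comp c)
    (y ≫ pullback.fst _ _) ?_ (pullback.fst (πA i sY π hπ c) y ≫ pullback.fst i (pmap c n)) j hj3
    ?_ ?_ hub he hm (by omega) (fun p => φ (MvPolynomial.X p)) ?_ (wS i sY π hπ c S y ζ') ?_ ?_
  · change (y ≫ pullback.fst sY _) ≫ sY = _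
    rw [Category.assoc, pullback.condition, ← Category.assoc, hy, ← Spec.map_comp,
      ← CommRingCat.ofHom_comp]
  · change _ = pullback.snd (πA i sY π hπ c) y ≫ y ≫ pullback.fst _ _
    rw [Category.assoc, ← πA_fst i sY π hπ c, ← Category.assoc, pullback.condition, Category.assoc]
  · rw [← pmap_comp, ← Category.assoc, hj2, Category.assoc, Category.assoc, ← pullback.condition]
  · let _ : Algebra k F := (φ.comp c).toAlgebra
    let φ' : MvPolynomial (Ix n m) k →ₐ[k] F := { φ with commutes' := fun r => rfl }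
    have h2 := (MvPolynomial.algebraicIndependent_X (Ix n m) k).map' (f := φ') hφ
    exact h2
  · have h2 := (mem_range_iff i sY π hπ c S φ y j hj2 (wS i sY π hπ c S y ζ')).mp ⟨ζ', rfl⟩
    rwa [map_uform] at h2
  · rw [h1, DimKit.trd_cast]
    exact_mod_cast hcon

/-- A maximal ideal over which the hypersurface section cuts all fibres properly. -/
theorem exists_maximal {d e m : ℕ} (hub : ∀ x, Dual3.resTrdeg π x ≤ ((d + 1 : ℕ) : Cardinal))
    (he : letI : Y.Over (Spec (CommRingCat.of k)) := ⟨sY⟩; ∀ y, ResMap.trd k Y y ≤ e) (hm : e ≤ m) :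
    ∃ M : Ideal (MvPolynomial (Ix n m) k), M.IsMaximal ∧
      ∀ x : XS i (MvPolynomial.C : k →+* MvPolynomial (Ix n m) k)
        (uform (MvPolynomial.X : Ix n m → MvPolynomial (Ix n m) k)),
        ((fS i sY π hπ MvPolynomial.C (uform (MvPolynomial.X : Ix n m → MvPolynomial (Ix n m) k)) ≫
          sA sY MvPolynomial.C) x : PrimeSpectrum (MvPolynomial (Ix n m) k)).asIdeal = M →
        FlatMor.fibreDimAt (fS i sY π hπ MvPolynomial.C
          (uform (MvPolynomial.X : Ix n m → MvPolynomial (Ix n m) k))) x ≤ d := by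
  let A := MvPolynomial (Ix n m) k
  let c : k →+* A := MvPolynomial.C
  let S : MvPolynomial (Fin (n + 1)) A := uform (MvPolynomial.X : Ix n m → A)
  let f := fS i sY π hπ c S
  let p := f ≫ sA sY c
  by_contra H
  push Not at H
  have hp : IsProper p := by
    have h1 : p = gS i c S ≫ iA i c ≫ ProjSpace.toSpec n A := by
      change (gS i c S ≫ πA i sY π hπ c) ≫ sA sY c = _
      rw [Category.assoc, πA_sA]
    rw [h1]
    infer_instance
  have hcl : IsClosed (p '' {x | FlatMor.fibreDimAt f x ≤ d}ᶜ) :=
    p.isClosedMap _ (S0402.result f d).isClosed_compl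
  obtain ⟨I, hI⟩ := (PrimeSpectrum.isClosed_iff_zeroLocus_ideal _).mp hcl
  have hI0 : I ≤ ⊥ := by
    have h1 : I ≤ Ideal.jacobson (⊥ : Ideal A) := by
      refine le_sInf fun M hM => ?_
      obtain ⟨x, hx, hx'⟩ := H M hM.2
      have h2 : p x ∈ PrimeSpectrum.zeroLocus (I : Set A) := by
        rw [← hI]
        exact ⟨x, not_le.mpr hx', rfl⟩
      rw [← hx]
      exact h2
    have h2 : Ideal.jacobson (⊥ : Ideal A) = ⊥ :=
      IsJacobsonRing.out (R := A) inferInstance Ideal.isRadical_bot
    rwa [h2] at h1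
  obtain ⟨x, hx, hx0⟩ : (⊥ : PrimeSpectrum A) ∈ p '' {x | FlatMor.fibreDimAt f x ≤ d}ᶜ := by
    rw [hI]
    exact hI0
  let y : Spec (CommRingCat.of ((YA sY c).residueField (f x))) ⟶ YA sY c :=
    (YA sY c).fromSpecResidueField (f x)
  let φ : CommRingCat.of A ⟶ CommRingCat.of ((YA sY c).residueField (f x)) := Spec.preimage (y ≫ sA sY c)
  have hφ : Spec.map φ = y ≫ sA sY c := Spec.map_preimage _
  have hinj : Function.Injective φ.hom := by
    rw [injective_iff_map_eq_zero]
    intro a ha
    let q := IsLocalRing.closedPoint ((YA sY c).residueField (f x))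
    have h1 : Spec.map φ q = (⊥ : PrimeSpectrum A) := by
      have h2 : y q = f x := Scheme.fromSpecResidueField_apply _ _
      have h3 : Spec.map φ q = (y ≫ sA sY c) q := congrArg (fun g => g q) hφ
      exact h3.trans ((congrArg (sA sY c) h2).trans hx0)
    have h3 : a ∈ (PrimeSpectrum.comap φ.hom q).asIdeal := by
      change φ.hom a ∈ q.asIdeal
      rw [ha]
      exact zero_mem _
    have h4 : PrimeSpectrum.comap φ.hom q = (⊥ : PrimeSpectrum A) := h1
    rw [h4] at h3
    exact h3
  have h1 := dim_le_of_injective i sY π hπ φ.hom hinj y hφ.symm hub he hm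
  exact hx ((FibDim.fibreDimAt_le_dim f x).trans h1)

omit [IsSeparated sY] in
theorem isPullback_ext {A k' : Type u} [CommRing A] [CommRing k'] (c : k →+* A) (φ : A →+* k') :
    IsPullback (pullback.fst (sA sY c) (Spec.map (CommRingCat.ofHom φ)) ≫ pullback.fst sY _)
      (pullback.snd (sA sY c) (Spec.map (CommRingCat.ofHom φ))) sY
      (Spec.map (CommRingCat.ofHom (φ.comp c))) := by
  have h := (IsPullback.of_hasPullback (sA sY c) (Spec.map (CommRingCat.ofHom φ))).paste_horiz
    (IsPullback.of_hasPullback sY (Spec.map (CommRingCat.ofHom c)))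
  rwa [← Spec.map_comp, ← CommRingCat.ofHom_comp] at h

include hπ in
/-- One hypersurface section after a finite extension of the base field. -/
theorem step {d : ℕ} [LocallyOfFiniteType sY]
    (hd : ∀ y, topologicalKrullDim (π.fiber y) = ((d + 1 : ℕ) : WithBot ℕ∞)) :
    ∃ (k' : Type u) (_ : Field k') (X' Y' : Scheme.{u}) (i' : X' ⟶ ProjSpace n k')
      (_ : IsClosedImmersion i') (sY' : Y' ⟶ Spec (CommRingCat.of k')) (_ : IsSeparated sY')
      (_ : LocallyOfFiniteType sY') (π' : X' ⟶ Y')
      (_ : π' ≫ sY' = i' ≫ ProjSpace.toSpec n k')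
      (_ : ∀ y', topologicalKrullDim (π'.fiber y') = (d : WithBot ℕ∞)) (g : Y' ⟶ Y),
      IsFinite g ∧ Surjective g := by
  have hπp : IsProper π := isProper_π i sY π hπ
  have hub : ∀ x, Dual3.resTrdeg π x ≤ ((d + 1 : ℕ) : Cardinal) :=
    fun x => FibDim.resTrdeg_le π x (d + 1) (hd _).le
  let _ : X.Over (Spec (CommRingCat.of k)) := ⟨i ≫ ProjSpace.toSpec n k⟩
  let _ : Y.Over (Spec (CommRingCat.of k)) := ⟨sY⟩
  have hPp := ProjSpaceProper.isProper_toSpec n k
  have _ : LocallyOfFiniteType (X ↘ Spec (CommRingCat.of k)) :=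
    inferInstanceAs (LocallyOfFiniteType (i ≫ ProjSpace.toSpec n k))
  have _ : LocallyOfFiniteType (Y ↘ Spec (CommRingCat.of k)) := ‹LocallyOfFiniteType sY›
  have he : ∀ y, ResMap.trd k Y y ≤ (n : Cardinal) := by
    intro y
    have := surjective_of_dim π (d + 1) hd
    obtain ⟨x, rfl⟩ := π.surjective y
    have h1 := DimKit.trd_map_le k π hπ x
    have h2 : ResMap.trd k (ProjSpace n k) (i x) = ResMap.trd k X x := ResMap.trd_eq k i rfl x
    rw [DimKit.trd_cast, DimKit.trd_cast] at h2
    have h2' : DimSch.trd k (ProjSpace n k) (i x) = DimSch.trd k X x := by exact_mod_cast h2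
    have h3 := DimFib.trd_le_of_specializes k (CohqA.ProjDim.gpt_specializes (i x))
    rw [ProjGen.trd_gpt] at h3
    rw [DimKit.trd_cast]
    have h4 : DimSch.trd k Y (π x) ≤ n := by omega
    exact_mod_cast h4
  obtain ⟨M, hM, hMx⟩ := exists_maximal i sY π hπ (d := d) (e := n) (m := n + 1) hub he (by omega)
  let A := MvPolynomial (Ix n (n + 1)) k
  let c : k →+* A := MvPolynomial.C
  let S : MvPolynomial (Fin (n + 1)) A := uform (MvPolynomial.X : Ix n (n + 1) → A)
  let f := fS i sY π hπ c S
  let k' := A ⧸ M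
  let _ : Field k' := Ideal.Quotient.field M
  let φ : A →+* k' := Ideal.Quotient.mk M
  let Y' := pullback (sA sY c) (Spec.map (CommRingCat.ofHom φ))
  let r : Y' ⟶ YA sY c := pullback.fst _ _
  let sY' : Y' ⟶ Spec (CommRingCat.of k') := pullback.snd _ _
  let X' := pullback f r
  let π' : X' ⟶ Y' := pullback.snd _ _
  have hfs : f ≫ sA sY c = (gS i c S ≫ iA i c) ≫ ProjSpace.toSpec n A := by
    change (gS i c S ≫ πA i sY π hπ c) ≫ sA sY c = _
    rw [Category.assoc, πA_sA, Category.assoc]
  let i' : X' ⟶ ProjSpace n k' := (isPullback_pmap φ n).lift (pullback.fst f r ≫ gS i c S ≫ iA i c)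
    (π' ≫ sY') (by
      rw [Category.assoc, ← hfs, ← Category.assoc, pullback.condition, Category.assoc,
        Category.assoc]
      congr 1
      exact pullback.condition)
  have hi1 : i' ≫ pmap φ n = pullback.fst f r ≫ gS i c S ≫ iA i c :=
    (isPullback_pmap φ n).lift_fst _ _ _
  have hi2 : i' ≫ ProjSpace.toSpec n k' = π' ≫ sY' := (isPullback_pmap φ n).lift_snd _ _ _
  have hi3 : IsPullback (pullback.fst f r) i' (gS i c S ≫ iA i c) (pmap φ n) := by
    refine IsPullback.of_bot (h₃₁ := Spec.map (CommRingCat.ofHom φ)) (v₂₁ := ProjSpace.toSpec n k')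
      (v₂₂ := ProjSpace.toSpec n A) ?_ hi1.symm (isPullback_pmap φ n)
    rw [hi2, ← hfs]
    exact (IsPullback.of_hasPullback f r).paste_vert (IsPullback.of_hasPullback _ _)
  have hi4 : IsClosedImmersion i' := MorphismProperty.of_isPullback hi3 inferInstance
  have hg := isPullback_ext sY c φ
  refine ⟨k', inferInstance, X', Y', i', hi4, sY', inferInstance, inferInstance, π', hi2.symm, ?_,
    r ≫ pullback.fst sY _, ?_, ?_⟩
  · intro y'
    apply le_antisymm
    · refine (FibDim.dim_fiber_le_iff π' y' d).mpr fun u _ => ?_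
      have h1 := Ega4fib.H172.FibDimBC.fibreDimAt_of_isPullback (IsPullback.of_hasPullback f r) u
      change FlatMor.fibreDimAt π' u = _ at h1
      rw [h1]
      refine hMx (pullback.fst f r u) ?_
      have h2 : (f ≫ sA sY c) (pullback.fst f r u) =
          Spec.map (CommRingCat.ofHom φ) (sY' (π' u)) := by
        have e1 : pullback.fst f r ≫ f ≫ sA sY c = π' ≫ sY' ≫ Spec.map (CommRingCat.ofHom φ) := by
          rw [← Category.assoc, pullback.condition, Category.assoc]
          exact congrArg (π' ≫ ·) pullback.condition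
        exact congrArg (fun g => g u) e1
      let q : PrimeSpectrum k' := sY' (π' u)
      have h3 : ((f ≫ sA sY c) (pullback.fst f r u) : PrimeSpectrum A).asIdeal =
          (PrimeSpectrum.comap φ q).asIdeal := congrArg PrimeSpectrum.asIdeal h2
      refine h3.trans ?_
      have h4 : q.asIdeal = ⊥ := Ideal.eq_bot_of_prime q.asIdeal
      rw [PrimeSpectrum.comap_asIdeal, h4]
      exact Ideal.mk_ker
    · let y0 : Spec (CommRingCat.of (Y'.residueField y')) ⟶ Y' := Y'.fromSpecResidueField y'
      let y : Spec (CommRingCat.of (Y'.residueField y')) ⟶ YA sY c := y0 ≫ r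
      let φF : CommRingCat.of A ⟶ CommRingCat.of (Y'.residueField y') := Spec.preimage (y ≫ sA sY c)
      have hφF : Spec.map φF = y ≫ sA sY c := Spec.map_preimage _
      obtain ⟨j, hj1, hj2, hj3⟩ := exists_j i sY π hπ c φF.hom y hφF.symm
      let _ : (pullback f y).Over (Spec (CommRingCat.of (Y'.residueField y'))) := ⟨pullback.snd _ _⟩
      let _ : (pullback (πA i sY π hπ c) y).Over (Spec (CommRingCat.of (Y'.residueField y'))) :=
        ⟨pullback.snd _ _⟩
      have h1 : topologicalKrullDim ↥(pullback (πA i sY π hπ c) y) = ((d + 1 : ℕ) : WithBot ℕ∞) := by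
        have h2 := (IsPullback.of_hasPullback (πA i sY π hπ c) y).paste_horiz
          (isPullback_πA i sY π hπ c)
        rw [FibDim.dim_of_isPullback h2]
        exact hd _
      have h3 : (MvPolynomial.map φF.hom S).IsHomogeneous (n + 1) := by
        rw [map_uform]
        exact uform_mem _
      have h4 := lower (Z := pullback (πA i sY π hπ c) y) (Z' := pullback f y) j hj3
        (wS i sY π hπ c S y) (wS_snd i sY π hπ c S y) h3 (Nat.succ_pos n)
        (fun z hz => (mem_range_iff i sY π hπ c S φF.hom y j hj2 z).mpr hz) (d := d) h1.ge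
      have h5 : topologicalKrullDim ↥(pullback f y) = topologicalKrullDim (π'.fiber y') := by
        have h6 := (IsPullback.of_hasPullback π' y0).paste_horiz (IsPullback.of_hasPullback f r)
        exact (FibDim.dim_of_isPullback (IsPullback.of_hasPullback f y)).trans
          (FibDim.dim_of_isPullback h6).symm
      rw [← h5]
      exact h4
  · refine MorphismProperty.of_isPullback hg.flip ?_
    rw [IsFinite.SpecMap_iff]
    have h1 : Algebra.FiniteType k k' := Algebra.FiniteType.trans (S := A) inferInstance inferInstance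
    have h2 : Module.Finite k k' := finite_of_finite_type_of_isJacobsonRing k k'
    exact RingHom.finite_algebraMap.mpr h2
  · refine MorphismProperty.of_isPullback hg.flip ?_
    refine ⟨fun p => ⟨IsLocalRing.closedPoint k', ?_⟩⟩
    exact Subsingleton.elim (α := PrimeSpectrum k) _ _

end Geo

end K129.Step
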